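import Cfsg.Agent.Lib.Helper14.PG63.Defs

/-!
# PG63 (S3664): common lemmas for the group packages LORD / LPRIME / LFPF
-/

set_option autoImplicit false

namespace Cfsg.Agent.Lib.Helper81.PG63

open Matrix Cfsg.Agent.Lib.Helper14.PG63

universe u

section Gen

variable {F : Type u} [Field F]

/-- an element with trivial field-automorphism part is `inl` of its left part -/
theorem eq_inl_of_right (y : Amb F) (h : y.right = 1) : y = SemidirectProduct.inl y.left := by
  apply SemidirectProduct.ext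
  · simp
  · simp [h]

theorem pow_left_of_right (y : Amb F) (h : y.right = 1) (n : ℕ) : (y ^ n).left = y.left ^ n := by
  conv_lhs => rw [eq_inl_of_right y h]
  rw [← map_pow]
  rfl

theorem pow_eq_one_of_mat (y : Amb F) (h : y.right = 1) (n : ℕ)
    (hM : (y.left : Matrix (Fin 4) (Fin 4) F) ^ n = 1) : y ^ n = 1 := by
  have hg : y.left ^ n = 1 := by
    apply Units.ext
    rw [Units.val_pow_eq_pow_val, hM, Units.val_one]
  rw [eq_inl_of_right y h, ← map_pow, hg, map_one]

theorem mat_pow_eq_one_of_pow (y : Amb F) (h : y.right = 1) (n : ℕ) (hy : y ^ n = 1) :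
    (y.left : Matrix (Fin 4) (Fin 4) F) ^ n = 1 := by
  rw [← Units.val_pow_eq_pow_val, ← pow_left_of_right y h, hy, SemidirectProduct.one_left,
    Units.val_one]

theorem pow_right' (y : Amb F) (n : ℕ) : (y ^ n).right = y.right ^ n :=
  map_pow (SemidirectProduct.rightHom : Amb F →* RingAut F) y n

theorem orderOf_right_dvd (y : Amb F) : orderOf y.right ∣ orderOf y :=
  orderOf_map_dvd (SemidirectProduct.rightHom : Amb F →* RingAut F) y

end Gen

theorem prime_dvd_four {r : ℕ} (hr : r.Prime) (h : r ∣ 4) : r = 2 := by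
  have h4 : (4 : ℕ) = 2 ^ 2 := by norm_num
  rw [h4] at h
  exact (Nat.prime_dvd_prime_iff_eq hr Nat.prime_two).mp (hr.dvd_of_dvd_pow h)

theorem no_rs_prime {r s p : ℕ} (hr : r.Prime) (hs : s.Prime) (hrs : r ≠ s) (hp : p.Prime)
    (h : r * s ∣ p) : False := by
  have h1 : r ∣ p := dvd_trans (dvd_mul_right r s) h
  have h2 : s ∣ p := dvd_trans (dvd_mul_left s r) h
  exact hrs (((Nat.prime_dvd_prime_iff_eq hr hp).mp h1).trans
    ((Nat.prime_dvd_prime_iff_eq hs hp).mp h2).symm)

theorem no_rs_four {r s : ℕ} (hr : r.Prime) (hs : s.Prime) (hrs : r ≠ s)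
    (h : r * s ∣ 4) : False := by
  have h1 : r ∣ 4 := dvd_trans (dvd_mul_right r s) h
  have h2 : s ∣ 4 := dvd_trans (dvd_mul_left s r) h
  exact hrs ((prime_dvd_four hr h1).trans (prime_dvd_four hs h2).symm)

section Char2

variable {F : Type u} [Field F] [Fintype F] [CharP F 2]

theorem right_pow_three (hFrob3 : orderOf (frobAut F) = 3) (τ : RingAut F)
    (hτ : τ ∈ Subgroup.zpowers (frobAut F)) : τ ^ 3 = 1 := by
  have hd : orderOf τ ∣ 3 := hFrob3 ▸ orderOf_dvd_of_mem_zpowers hτ
  exact orderOf_dvd_iff_pow_eq_one.mp hd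

theorem orderOf_right_eq_three (hFrob3 : orderOf (frobAut F) = 3) (τ : RingAut F)
    (hτ : τ ∈ Subgroup.zpowers (frobAut F)) (hne : τ ≠ 1) : orderOf τ = 3 := by
  have : Fact (Nat.Prime 3) := ⟨by norm_num⟩
  exact orderOf_eq_prime (right_pow_three hFrob3 τ hτ) hne

end Char2

end Cfsg.Agent.Lib.Helper81.PG63
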