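import Cfsg.Agent.Lib.Helper81.PG63.Basics

/-!
# PG63 (S3664): package [LFPF] - the elements of order 13 of `L` have no nonzero fixed point on `W`
-/

set_option autoImplicit false

namespace Cfsg.Agent.Lib.Helper81.PG63

open Matrix Cfsg.Agent.Lib.Helper14.PG63

universe u

theorem pkgLFpf : PkgLFpf.{u} := by
  intro hStr _hCls hFrob hFpf F _ _ _ hF x hord X hX
  have hy : (x : Amb F) ∈ L F := x.2
  have hordy : orderOf (x : Amb F) = 13 := by rw [Subgroup.orderOf_coe]; exact hord
  obtain ⟨hP, hτ⟩ := hStr hF _ hy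
  obtain ⟨hF3, -⟩ := hFrob hF
  have h1 : (x : Amb F).right = 1 := by
    by_contra h1
    have hoτ : orderOf (x : Amb F).right = 3 := orderOf_right_eq_three hF3 _ hτ h1
    have hd := orderOf_right_dvd (x : Amb F)
    rw [hoτ, hordy] at hd
    omega
  have h13 : ((x : Amb F).left : Matrix (Fin 4) (Fin 4) F) ^ 13 = 1 := by
    apply mat_pow_eq_one_of_pow _ h1
    rw [← hordy]
    exact pow_orderOf_eq_one _
  have hne : ((x : Amb F).left : Matrix (Fin 4) (Fin 4) F) ≠ 1 := by
    intro h
    have h' : (x : Amb F) ^ 1 = 1 := pow_eq_one_of_mat _ h1 1 (by rw [pow_one, h])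
    have hd := orderOf_dvd_of_pow_eq_one h'
    rw [hordy] at hd
    omega
  apply hFpf hF _ X hP h13 hne
  have hX' : (x : Amb F) • X = X := hX
  rw [Cfsg.Agent.Lib.Helper14.PG63.smul_def, h1] at hX'
  have hmap : X.map (1 : RingAut F) = X := by
    ext i j
    rfl
  rw [hmap] at hX'
  exact hX'

end Cfsg.Agent.Lib.Helper81.PG63
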