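import Cfsg.Agent.Lib.Helper81.PG63.Basics

/-!
# PG63 (S3664): package [LORD] - the products of two primes among the element orders of `L`
-/

set_option autoImplicit false

namespace Cfsg.Agent.Lib.Helper81.PG63

open Matrix Cfsg.Agent.Lib.Helper14.PG63

universe u

theorem pkgLOrd : PkgLOrd.{u} := by
  intro hStr hCls hFrob F _ _ _ hF x r s hr hs hrs hord
  have hy : (x : Amb F) ∈ L F := x.2
  have hordy : orderOf (x : Amb F) = r * s := by rw [Subgroup.orderOf_coe]; exact hord
  obtain ⟨hP, hτ⟩ := hStr hF _ hy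
  obtain ⟨hF3, hFfix⟩ := hFrob hF
  by_cases h1 : (x : Amb F).right = 1
  · exfalso
    have key : ∀ n : ℕ, ((x : Amb F).left : Matrix (Fin 4) (Fin 4) F) ^ n = 1 → r * s ∣ n := by
      intro n hn
      rw [← hordy]
      exact orderOf_dvd_of_pow_eq_one (pow_eq_one_of_mat _ h1 n hn)
    rcases hCls hF _ hP with ⟨-, h⟩ | ⟨-, h⟩ | ⟨-, h⟩ | ⟨-, h⟩
    · exact no_rs_four hr hs hrs (key 4 h)
    · exact no_rs_prime hr hs hrs (by norm_num) (key 5 h)
    · exact no_rs_prime hr hs hrs (by norm_num) (key 7 h)
    · exact no_rs_prime hr hs hrs (by norm_num) (key 13 h)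
  · have hτ3 : (x : Amb F).right ^ 3 = 1 := right_pow_three hF3 _ hτ
    have hoτ : orderOf (x : Amb F).right = 3 := orderOf_right_eq_three hF3 _ hτ h1
    have h3 : 3 ∣ r * s := by
      have hd := orderOf_right_dvd (x : Amb F)
      rw [hoτ, hordy] at hd
      exact hd
    -- the cube
    have hy3 : (x : Amb F) ^ 3 ∈ L F := pow_mem hy 3
    obtain ⟨hP3, -⟩ := hStr hF _ hy3
    have hr3 : ((x : Amb F) ^ 3).right = 1 := by rw [pow_right', hτ3]
    -- the cube commutes with the element
    have hcomm : (x : Amb F) * (x : Amb F) ^ 3 = (x : Amb F) ^ 3 * (x : Amb F) :=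
      (Commute.refl (x : Amb F)).pow_right 3
    have hl := congrArg SemidirectProduct.left hcomm
    rw [SemidirectProduct.mul_left, SemidirectProduct.mul_left, hr3, map_one,
      MulAut.one_apply] at hl
    have hm : ((x : Amb F).left : Matrix (Fin 4) (Fin 4) F) *
        (((x : Amb F) ^ 3).left : Matrix (Fin 4) (Fin 4) F).map (x : Amb F).right =
        (((x : Amb F) ^ 3).left : Matrix (Fin 4) (Fin 4) F) *
          ((x : Amb F).left : Matrix (Fin 4) (Fin 4) F) := by
      have h := congrArg Units.val hl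
      rw [Units.val_mul, Units.val_mul, mapHom_coe] at h
      exact h
    have htr1 : ((((x : Amb F) ^ 3).left : Matrix (Fin 4) (Fin 4) F).map
        (x : Amb F).right).trace =
        (x : Amb F).right (((x : Amb F) ^ 3).left : Matrix (Fin 4) (Fin 4) F).trace := by
      simp [Matrix.trace, map_sum]
    have heq : (((x : Amb F) ^ 3).left : Matrix (Fin 4) (Fin 4) F).map (x : Amb F).right =
        (((x : Amb F).left⁻¹ : GL (Fin 4) F) : Matrix (Fin 4) (Fin 4) F) *
          ((((x : Amb F) ^ 3).left : Matrix (Fin 4) (Fin 4) F) *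
            ((x : Amb F).left : Matrix (Fin 4) (Fin 4) F)) := by
      rw [← hm, ← Matrix.mul_assoc, ← Units.val_mul, inv_mul_cancel, Units.val_one,
        Matrix.one_mul]
    have htr2 : ((((x : Amb F) ^ 3).left : Matrix (Fin 4) (Fin 4) F).map
        (x : Amb F).right).trace =
        (((x : Amb F) ^ 3).left : Matrix (Fin 4) (Fin 4) F).trace := by
      rw [heq, Matrix.trace_mul_comm, Matrix.mul_assoc, ← Units.val_mul, mul_inv_cancel,
        Units.val_one, Matrix.mul_one]
    have hc := hFfix _ hτ h1 _ (htr1.symm.trans htr2)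
    have h2 : (1 : F) + 1 = 0 := CharTwo.add_self_eq_zero 1
    have h12 : (x : Amb F) ^ 12 = 1 ∨ (x : Amb F) ^ 15 = 1 := by
      rcases hCls hF _ hP3 with ⟨-, h⟩ | ⟨-, h⟩ | ⟨hc3, -⟩ | ⟨hc3, -⟩
      · left
        have h' := pow_eq_one_of_mat ((x : Amb F) ^ 3) hr3 4 h
        rw [← pow_mul] at h'
        exact h'
      · right
        have h' := pow_eq_one_of_mat ((x : Amb F) ^ 3) hr3 5 h
        rw [← pow_mul] at h'
        exact h'
      · exfalso
        rcases hc with h0 | h1'
        · rw [h0] at hc3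
          simp at hc3
        · rw [h1'] at hc3
          simp [h2] at hc3
      · exfalso
        rcases hc with h0 | h1'
        · rw [h0] at hc3
          simp at hc3
        · rw [h1'] at hc3
          simp [h2] at hc3
    have hdiv : r * s ∣ 12 ∨ r * s ∣ 15 := by
      rcases h12 with h | h
      · left; rw [← hordy]; exact orderOf_dvd_of_pow_eq_one h
      · right; rw [← hordy]; exact orderOf_dvd_of_pow_eq_one h
    have hr3' : r = 3 ∨ s = 3 := by
      rcases (Nat.Prime.dvd_mul Nat.prime_three).mp h3 with h | h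
      · left; exact ((Nat.prime_dvd_prime_iff_eq Nat.prime_three hr).mp h).symm
      · right; exact ((Nat.prime_dvd_prime_iff_eq Nat.prime_three hs).mp h).symm
    rcases hr3' with h | h
    · subst h
      rcases hdiv with h | h
      · have h4 : s ∣ 4 :=
          (Nat.mul_dvd_mul_iff_left (by norm_num : 0 < 3)).mp (show 3 * s ∣ 3 * 4 from h)
        right; left
        exact ⟨rfl, prime_dvd_four hs h4⟩
      · have h5 : s ∣ 5 :=
          (Nat.mul_dvd_mul_iff_left (by norm_num : 0 < 3)).mp (show 3 * s ∣ 3 * 5 from h)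
        right; right; left
        exact ⟨rfl, (Nat.prime_dvd_prime_iff_eq hs (by norm_num)).mp h5⟩
    · subst h
      rcases hdiv with h | h
      · have h4 : r ∣ 4 :=
          (Nat.mul_dvd_mul_iff_right (by norm_num : 0 < 3)).mp (show r * 3 ∣ 4 * 3 from h)
        left
        exact ⟨prime_dvd_four hr h4, rfl⟩
      · have h5 : r ∣ 5 :=
          (Nat.mul_dvd_mul_iff_right (by norm_num : 0 < 3)).mp (show r * 3 ∣ 5 * 3 from h)
        right; right; right
        exact ⟨(Nat.prime_dvd_prime_iff_eq hr (by norm_num)).mp h5, rfl⟩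

end Cfsg.Agent.Lib.Helper81.PG63
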