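import Cfsg.Agent.Lib.Helper81.PG63.Basics

/-!
# PG63 (S3664): package [LPRIME] - the prime element orders of `L` are 2, 3, 5, 7, 13
-/

set_option autoImplicit false

namespace Cfsg.Agent.Lib.Helper81.PG63

open Matrix Cfsg.Agent.Lib.Helper14.PG63

universe u

theorem pkgLPrime : PkgLPrime.{u} := by
  intro hStr hCls hFrob F _ _ _ hF x p hp hord
  have hy : (x : Amb F) ∈ L F := x.2
  have hordy : orderOf (x : Amb F) = p := by rw [Subgroup.orderOf_coe]; exact hord
  obtain ⟨hP, hτ⟩ := hStr hF _ hy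
  obtain ⟨hF3, -⟩ := hFrob hF
  show p = 2 ∨ p = 3 ∨ p = 5 ∨ p = 7 ∨ p = 13
  by_cases h1 : (x : Amb F).right = 1
  · have key : ∀ n : ℕ, ((x : Amb F).left : Matrix (Fin 4) (Fin 4) F) ^ n = 1 → p ∣ n := by
      intro n hn
      rw [← hordy]
      exact orderOf_dvd_of_pow_eq_one (pow_eq_one_of_mat _ h1 n hn)
    rcases hCls hF _ hP with ⟨-, h⟩ | ⟨-, h⟩ | ⟨-, h⟩ | ⟨-, h⟩
    · left; exact prime_dvd_four hp (key 4 h)
    · right; right; left
      exact (Nat.prime_dvd_prime_iff_eq hp (by norm_num)).mp (key 5 h)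
    · right; right; right; left
      exact (Nat.prime_dvd_prime_iff_eq hp (by norm_num)).mp (key 7 h)
    · right; right; right; right
      exact (Nat.prime_dvd_prime_iff_eq hp (by norm_num)).mp (key 13 h)
  · have hoτ : orderOf (x : Amb F).right = 3 := orderOf_right_eq_three hF3 _ hτ h1
    have h3 : 3 ∣ p := by
      have hd := orderOf_right_dvd (x : Amb F)
      rw [hoτ, hordy] at hd
      exact hd
    right; left
    exact ((Nat.prime_dvd_prime_iff_eq Nat.prime_three hp).mp h3).symm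

end Cfsg.Agent.Lib.Helper81.PG63
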